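/-!
The relator words of the configuration: letters 0-7 stand for (34)(67), (45)(67), (34)(78), (34)(56),
(01)(34), (01)(36)(47)(58), (12)(34), (03)(14)(25)(67).
-/

set_option autoImplicit false

namespace Cfsg.Lib.NineThree.Words

/-- Relators of the subgroup of order 216 without the letter 3. -/
def relA : List (List Nat) := [[4, 2, 4, 2], [5, 1, 5, 2], [6, 2, 6, 2], [0, 4, 5, 4, 5], [1, 0, 1, 0, 1, 0], [1, 2, 0, 1, 2, 0], [5, 6, 4, 5, 6, 4], [6, 4, 6, 4, 6, 4]]

/-- Relators of the alternating group of degree six on the letters 0-3. -/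
def relL : List (List Nat) := [[3, 2, 3, 2], [1, 0, 1, 0, 1, 0], [1, 2, 0, 1, 2, 0], [2, 0, 2, 0, 2, 0], [3, 0, 3, 0, 3, 0], [0, 1, 3, 0, 1, 3, 0, 1, 3]]

/-- The conjugates of the letter 3. -/
def relC : List (List Nat) := [[4, 3, 4, 3], [5, 3, 5, 2, 1, 3, 1, 2, 1], [6, 3, 6, 3]]

/-- The word for the element of order four as a product of the letters 0-3. -/
def kword : List Nat := [3, 1, 2, 3, 0, 1, 0, 3]

/-- The relator identifying the element of order four. -/
def relK : List Nat := [4, 5, 3, 0, 1, 0, 3, 2, 1, 3]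

/-- Further relators among the letters other than 3. -/
def relH : List (List Nat) := [[0, 4, 7, 0, 7], [0, 6, 7, 1, 7], [2, 7, 0, 2, 7, 0], [7, 5, 7, 5, 7, 5]]

/-- The crossing relator of the alternating group of degree nine. -/
def crossNine : List Nat := [3, 7, 3, 7, 3, 7, 3, 7]

/-- The crossing relator of the other configuration. -/
def crossSix : List Nat := [3, 7, 0, 3, 0, 7, 3, 7, 0, 3, 0, 7]

/-- The relators of the normaliser of the three-cycle. -/
def relN : List (List Nat) := relA ++ relL ++ relC ++ [relK]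

/-- The squares of the letters and the empty word. -/
def triv : List (List Nat) := [[], [0, 0], [1, 1], [2, 2], [3, 3], [4, 4], [5, 5], [6, 6], [7, 7]]

end Cfsg.Lib.NineThree.Words
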